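import Cfsg.Agent.H40.Ch.Data
import Cfsg.Agent.H928.Ad.Chev
import Cfsg.Agent.H783.CGTable

/-!
# S4884 : `RowB` for the exceptional Chevalley groups in characteristic two (helper40)

* `rowB_chev` : all tabulated types with `CommGen`;
* `rowB_G2` (`|K| ≥ 3`), `rowB_F4` (`|K| > 2`), `rowB_E6`, `rowB_E7`, `rowB_E8`.
-/

set_option autoImplicit false
set_option linter.unusedSectionVars false

namespace Cfsg.Agent.H40.Ch

open Cfsg Cfsg.Agent.H148.GG Cfsg.Agent.H40.OC Cfsg.Agent.H928.Ad Cfsg.Agent.H706.PB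
open Cfsg.Lie Cfsg.Agent.Nodes Cfsg.Agent.Nodes.RGDChev Cfsg.Agent.Nodes.RGDLib
open Cfsg.Agent.Omega.EH3.Kf Cfsg.Agent.H396 Cfsg.Agent.H783
open Cfsg.Agent.Omega.EH3.Kf.Lev (CommGen comm_of_sl)
open Cfsg.Agent.H396.CommTab

universe u

/-- **the row for a tabulated type** -/
theorem rowB_chev {D : ChevalleyDatum} {l : ℕ} {M : CoxeterMatrix (Fin l)} (hp : IsType D l M) (K : Type u) [Field K]
    [Finite K] [CharP K 2]
    (hC : CommGen M.toCoxeterSystem hp.isCartan (fun x => (XV D l K x).subgroupOf (D.group K)))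
    {q : ℕ} (hq : q.Prime) (hq2 : q ≠ 2) (hqY : q ∣ Nat.card ↥(D.group K)) : RowB q ↥(D.group K) := by
  have : Fact (Nat.Prime 2) := ⟨Nat.prime_two⟩
  have : Finite M.Group := finite_W hp M.toCoxeterSystem
  obtain ⟨φ, -, hφ⟩ := Chev.anti (K := K) hp M.toCoxeterSystem 2
  exact rowB_data (Chev.data (K := K) hp M.toCoxeterSystem 2) hC hφ hq hq2 hqY

theorem rowB_sl {D : ChevalleyDatum} {l : ℕ} {M : CoxeterMatrix (Fin l)} (hp : IsType D l M) (K : Type u) [Field K]
    [Finite K] [CharP K 2] (h4 : ∀ i j, M i j ≠ 4) (h6 : ∀ i j, M i j ≠ 6)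
    {q : ℕ} (hq : q.Prime) (hq2 : q ≠ 2) (hqY : q ∣ Nat.card ↥(D.group K)) : RowB q ↥(D.group K) := by
  have : Fact (Nat.Prime 2) := ⟨Nat.prime_two⟩
  have : Finite M.Group := finite_W hp M.toCoxeterSystem
  exact rowB_chev hp K (comm_of_sl (rgd (K := K) hp M.toCoxeterSystem 2)
    (Cfsg.Agent.KFacts.RgdFiltWitt.sl_of_ne h4 h6)) hq hq2 hqY

variable (K : Type u) [Field K] [Finite K] [CharP K 2] {q : ℕ} (hq : q.Prime) (hq2 : q ≠ 2)

include hq hq2

theorem rowB_E6 (hqY : q ∣ Nat.card ↥(chevE6.group K)) : RowB q ↥(chevE6.group K) :=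
  rowB_sl (l := 6) (M := CoxeterMatrix.E₆) (by simp [IsType, typeList]) K (fun i j => (lab_E6 i j).1)
    (fun i j => (lab_E6 i j).2) hq hq2 hqY

theorem rowB_E7 (hqY : q ∣ Nat.card ↥(chevE7.group K)) : RowB q ↥(chevE7.group K) :=
  rowB_sl (l := 7) (M := CoxeterMatrix.E₇) (by simp [IsType, typeList]) K (fun i j => (lab_E7 i j).1)
    (fun i j => (lab_E7 i j).2) hq hq2 hqY

theorem rowB_E8 (hqY : q ∣ Nat.card ↥(chevE8.group K)) : RowB q ↥(chevE8.group K) :=
  rowB_sl (l := 8) (M := CoxeterMatrix.E₈) (by simp [IsType, typeList]) K (fun i j => (lab_E8 i j).1)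
    (fun i j => (lab_E8 i j).2) hq hq2 hqY

theorem rowB_F4 (hK : 2 < Nat.card K) (hqY : q ∣ Nat.card ↥(chevF4.group K)) : RowB q ↥(chevF4.group K) := by
  have hK' : ∃ c : K, c ≠ 0 ∧ c ≠ 1 := by
    classical
    have : Fintype K := Fintype.ofFinite K
    rw [Nat.card_eq_fintype_card] at hK
    have h5 : 1 ≤ (((Finset.univ : Finset K).erase 0).erase 1).card := by
      rw [Finset.card_erase_of_mem (by simp), Finset.card_erase_of_mem (by simp), Finset.card_univ]
      omega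
    obtain ⟨a, ha⟩ := Finset.card_pos.1 h5
    simp only [Finset.mem_erase, Finset.mem_univ, and_true] at ha
    exact ⟨a, ha.2, ha.1⟩
  exact rowB_chev Omega.ML.Ex.Lie2.DatF4.isType_F4 K (Omega.ML.Ex.Lie2.DatF4.commGen_F4 hK') hq hq2 hqY

theorem rowB_G2 (hK : 2 < Nat.card K) (hqY : q ∣ Nat.card ↥(chevG2.group K)) : RowB q ↥(chevG2.group K) := by
  have hK' : ∃ a a' : K, a ≠ 0 ∧ a ≠ 1 ∧ a' ≠ 0 ∧ a' ≠ 1 ∧ a ≠ a' := by
    classical
    have : Fintype K := Fintype.ofFinite K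
    rw [Nat.card_eq_fintype_card] at hK
    obtain ⟨k, -, hk⟩ := FiniteField.card K 2
    have h4 : 4 ≤ Fintype.card K := by
      rw [hk] at hK ⊢
      have h2 : 2 ≤ (k : ℕ) := by
        by_contra hcon
        have h3 : (k : ℕ) ≤ 1 := by omega
        have := Nat.pow_le_pow_right (n := 2) (by norm_num) h3
        omega
      exact Nat.pow_le_pow_right (n := 2) (by norm_num) h2
    have h5 : 2 ≤ (((Finset.univ : Finset K).erase 0).erase 1).card := by
      rw [Finset.card_erase_of_mem (by simp), Finset.card_erase_of_mem (by simp), Finset.card_univ]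
      omega
    obtain ⟨a, ha, b, hb, hab⟩ := Finset.one_lt_card.1 h5
    simp only [Finset.mem_erase, Finset.mem_univ, and_true] at ha hb
    exact ⟨a, b, ha.2, ha.1, hb.2, hb.1, hab⟩
  exact rowB_chev (l := 2) (M := CoxeterMatrix.G₂) (by simp [IsType, typeList]) K (commGen_G2 K hK') hq hq2 hqY

omit K [Field K] [Finite K] [CharP K 2] in
/-- **the exceptional Chevalley groups in characteristic two** (`F₄(2)` separately) -/
theorem rowB_exc {X : Type} [Group X] [Finite X] (hX : IsExceptionalChevChar 2 X)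
    (hF : ∀ (K : Type) [Field K] [Fintype K], Fintype.card K = 2 → (X ≃* ↥(chevF4.group K)) → RowB q X)
    (hd : q ∣ Nat.card X) : RowB q X := by
  obtain ⟨K, i1, i2, i3, hK⟩ := hX
  have key : ∀ {Z : Type} [Group Z] (e : X ≃* Z), q ∣ Nat.card Z := fun e => by
    rw [← Nat.card_congr e.toEquiv]; exact hd
  rcases hK with ⟨h3, ⟨e⟩⟩ | ⟨⟨e⟩⟩ | ⟨⟨e⟩⟩ | ⟨⟨e⟩⟩ | ⟨⟨e⟩⟩
  · exact (rowB_G2 K hq hq2 (by rw [Nat.card_eq_fintype_card]; omega) (key e)).congr e
  · by_cases h2 : Fintype.card K = 2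
    · exact hF K h2 e
    · refine (rowB_F4 K hq hq2 ?_ (key e)).congr e
      rw [Nat.card_eq_fintype_card]
      have := Fintype.one_lt_card (α := K)
      omega
  · exact (rowB_E6 K hq hq2 (key e)).congr e
  · exact (rowB_E7 K hq hq2 (key e)).congr e
  · exact (rowB_E8 K hq hq2 (key e)).congr e

end Cfsg.Agent.H40.Ch
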